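import Mathlib
import Cfsg.Agent.Lib.Helper99.SP8.Defs

set_option autoImplicit false

universe u

namespace Cfsg.Agent.Lib.Helper99.SPU

open Module LinearMap QuadraticMap Cfsg.Agent.Lib.Helper48 Cfsg.Agent.Lib.Helper99.SP8

/-- `Nm T K = 1 + T + ... + T^(K-1)`. -/
noncomputable def Nm {F V : Type*} [Field F] [AddCommGroup V] [Module F V] (T : End F V) (K : ℕ) :
    End F V :=
  ∑ i ∈ Finset.range K, T ^ i

/-- some quadratic space of dimension `2c` and type `ε` has an isometry of exact order `K` whose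
fixed space has dimension `δ`. -/
def QD (F : Type u) [Field F] [Fintype F] (ε : Bool) (c K δ : ℕ) : Prop :=
  ∃ (V : Type u) (_ : AddCommGroup V) (_ : Module F V) (_ : FiniteDimensional F V)
    (Q : QuadraticForm F V) (T : End F V),
    IsTyp Q c ε ∧ (∀ v, Q (T v) = Q v) ∧ (∀ j, T ^ j = 1 ↔ K ∣ j) ∧ finrank F (ker (T - 1)) = δ

/-- the same, and moreover `1 + T + ... + T^(K-1) ≠ 0`. -/
def QN (F : Type u) [Field F] [Fintype F] (ε : Bool) (c K δ : ℕ) : Prop :=
  ∃ (V : Type u) (_ : AddCommGroup V) (_ : Module F V) (_ : FiniteDimensional F V)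
    (Q : QuadraticForm F V) (T : End F V),
    IsTyp Q c ε ∧ (∀ v, Q (T v) = Q v) ∧ (∀ j, T ^ j = 1 ↔ K ∣ j) ∧ finrank F (ker (T - 1)) = δ ∧
      Nm T K ≠ 0

/-- `K` is an element order of `V ⋊ Ω`, `V` the minus type space of dimension 8 and `Ω` the group of
the isometries with a fixed space of even dimension. -/
def InG (F : Type u) [Field F] [Fintype F] (K : ℕ) : Prop :=
  (∃ δ, Even δ ∧ QD F false 4 K δ) ∨ (∃ K' δ, K = 2 * K' ∧ Even δ ∧ QN F false 4 K' δ)

end Cfsg.Agent.Lib.Helper99.SPU
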