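import Mathlib
import Cfsg.Agent.Lib.Helper99.SPU.Defs
import Cfsg.Agent.Lib.Helper66.SP8QADD

set_option autoImplicit false

universe u

namespace Cfsg.Agent.Lib.Helper99.SPU

open Module LinearMap QuadraticMap Cfsg.Agent.Lib.Helper48 Cfsg.Agent.Lib.Helper99.SP8
  Cfsg.Agent.Lib.Helper66.SP8

/-- TADD1 -/
theorem isTyp_prod {F V₁ V₂ : Type*} [Field F] [Fintype F] [AddCommGroup V₁] [Module F V₁]
    [FiniteDimensional F V₁] [AddCommGroup V₂] [Module F V₂] [FiniteDimensional F V₂]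
    {Q₁ : QuadraticForm F V₁} {Q₂ : QuadraticForm F V₂} {c₁ c₂ : ℕ} {ε : Bool}
    (ht₁ : IsTyp Q₁ c₁ true) (ht₂ : IsTyp Q₂ c₂ ε) : IsTyp (Q₁.prod Q₂) (c₁ + c₂) ε := by
  classical
  refine ⟨?_, ?_, ?_⟩
  · rw [finrank_prod, ht₁.1, ht₂.1]; ring
  · intro x hx
    have h1 : x.1 = 0 := by
      apply ht₁.2.1
      intro y
      have := hx (y, 0)
      rw [polar_prod] at this
      simpa [QuadraticMap.polar] using this
    have h2 : x.2 = 0 := by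
      apply ht₂.2.1
      intro y
      have := hx (0, y)
      rw [polar_prod] at this
      simpa [QuadraticMap.polar] using this
    exact Prod.ext h1 h2
  · have hN := qadd_count Q₁ Q₂ ht₁ ht₂
    have htot₁ := qadd_total Q₁ ht₁
    have htot₂ := qadd_total Q₂ ht₂
    have hle : Nat.card {v : V₁ // Q₁ v = 0} ≤ Fintype.card F ^ (2 * c₁) := by omega
    have hq1 : 1 < Fintype.card F := Fintype.one_lt_card
    have hc₁ := ht₁.2.2
    have hc₂ := ht₂.2.2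
    simp only [cond_true] at hc₁
    obtain ⟨q, hq⟩ : ∃ q, q = Fintype.card F := ⟨_, rfl⟩
    obtain ⟨N, hNd⟩ : ∃ N, N = Nat.card {v : V₁ × V₂ // (Q₁.prod Q₂) v = 0} := ⟨_, rfl⟩
    obtain ⟨N₁, hN₁⟩ : ∃ N₁, N₁ = Nat.card {v : V₁ // Q₁ v = 0} := ⟨_, rfl⟩
    obtain ⟨N₂, hN₂⟩ : ∃ N₂, N₂ = Nat.card {v : V₂ // Q₂ v = 0} := ⟨_, rfl⟩
    obtain ⟨m₂, hm₂⟩ : ∃ m₂, m₂ = Nat.card {v : V₂ // Q₂ v = 1} := ⟨_, rfl⟩
    rw [← hq, ← hN₁] at hc₁ hle
    rw [← hq, ← hN₂] at hc₂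
    rw [← hq, ← hN₂, ← hm₂] at htot₂
    rw [← hq, ← hNd, ← hN₁, ← hN₂, ← hm₂] at hN
    rw [← hq, ← hNd]
    rw [← hq] at hq1
    have hqz : (q : ℤ) ≠ 0 := by positivity
    have hq1z : (q : ℤ) - 1 ≠ 0 := by
      have : (1 : ℤ) < q := by exact_mod_cast hq1
      omega
    have ha : (q : ℤ) * N₁ = (q : ℤ) ^ c₁ * (q : ℤ) ^ c₁ + ((q : ℤ) - 1) * (q : ℤ) ^ c₁ := by
      have : (q : ℤ) * N₁ + (q : ℤ) ^ c₁ = (q : ℤ) ^ (2 * c₁) + (q : ℤ) ^ (c₁ + 1) := by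
        exact_mod_cast hc₁
      rw [two_mul, pow_add, pow_succ] at this
      linear_combination this
    have htz : (N₂ : ℤ) + ((q : ℤ) - 1) * m₂ = (q : ℤ) ^ c₂ * (q : ℤ) ^ c₂ := by
      have : (N₂ : ℤ) + ((q - 1 : ℕ) : ℤ) * m₂ = (q : ℤ) ^ (2 * c₂) := by exact_mod_cast htot₂
      rw [Nat.cast_sub hq1.le, Nat.cast_one, two_mul, pow_add] at this
      exact this
    have hNz : (N : ℤ) = (N₁ : ℤ) * N₂ + ((q : ℤ) ^ c₁ * (q : ℤ) ^ c₁ - N₁) * m₂ := by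
      have : (N : ℤ) = (N₁ : ℤ) * N₂ + ((q ^ (2 * c₁) - N₁ : ℕ) : ℤ) * m₂ := by exact_mod_cast hN
      rw [Nat.cast_sub hle, Nat.cast_pow, two_mul, pow_add] at this
      exact this
    cases ε
    · simp only [cond_false] at hc₂ ⊢
      have hb : (q : ℤ) * N₂ = (q : ℤ) ^ c₂ * (q : ℤ) ^ c₂ + (-1) * ((q : ℤ) - 1) * (q : ℤ) ^ c₂ := by
        have : (q : ℤ) * N₂ + (q : ℤ) ^ (c₂ + 1) = (q : ℤ) ^ (2 * c₂) + (q : ℤ) ^ c₂ := by
          exact_mod_cast hc₂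
        rw [two_mul, pow_add, pow_succ] at this
        linear_combination this
      have key := qadd_arith hqz hq1z ha hb htz hNz
      have : (q : ℤ) * N + (q : ℤ) ^ (c₁ + c₂ + 1) = (q : ℤ) ^ (2 * (c₁ + c₂)) + (q : ℤ) ^ (c₁ + c₂) := by
        rw [key]; ring
      exact_mod_cast this
    · simp only [cond_true] at hc₂ ⊢
      have hb : (q : ℤ) * N₂ = (q : ℤ) ^ c₂ * (q : ℤ) ^ c₂ + 1 * ((q : ℤ) - 1) * (q : ℤ) ^ c₂ := by
        have : (q : ℤ) * N₂ + (q : ℤ) ^ c₂ = (q : ℤ) ^ (2 * c₂) + (q : ℤ) ^ (c₂ + 1) := by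
          exact_mod_cast hc₂
        rw [two_mul, pow_add, pow_succ] at this
        linear_combination this
      have key := qadd_arith hqz hq1z ha hb htz hNz
      have : (q : ℤ) * N + (q : ℤ) ^ (c₁ + c₂) = (q : ℤ) ^ (2 * (c₁ + c₂)) + (q : ℤ) ^ (c₁ + c₂ + 1) := by
        rw [key]; ring
      exact_mod_cast this

/-- the type does not depend on the order of the summands -/
theorem isTyp_swap {F V₁ V₂ : Type*} [Field F] [Fintype F] [AddCommGroup V₁] [Module F V₁]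
    [AddCommGroup V₂] [Module F V₂]
    {Q₁ : QuadraticForm F V₁} {Q₂ : QuadraticForm F V₂} {c : ℕ} {ε : Bool}
    (h : IsTyp (Q₂.prod Q₁) c ε) : IsTyp (Q₁.prod Q₂) c ε := by
  obtain ⟨h1, h2, h3⟩ := h
  have hcard : Nat.card {v : V₁ × V₂ // (Q₁.prod Q₂) v = 0} =
      Nat.card {v : V₂ × V₁ // (Q₂.prod Q₁) v = 0} := by
    apply Nat.card_congr
    refine (Equiv.prodComm V₁ V₂).subtypeEquiv ?_
    intro a
    simp only [QuadraticMap.prod_apply, Equiv.prodComm_apply, Prod.fst_swap, Prod.snd_swap]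
    rw [add_comm]
  refine ⟨?_, ?_, ?_⟩
  · rw [← h1]
    exact (LinearEquiv.prodComm F V₁ V₂).finrank_eq
  · intro x hx
    have : x.swap = 0 := by
      apply h2
      intro y
      have := hx y.swap
      rw [polar_prod] at this ⊢
      simp only [Prod.fst_swap, Prod.snd_swap] at this ⊢
      rw [add_comm]
      exact this
    have h4 := congrArg Prod.swap this
    simpa using h4
  · rw [hcard]
    exact h3

/-- TADD2 -/
theorem isTyp_prod_ne {F V₁ V₂ : Type*} [Field F] [Fintype F] [AddCommGroup V₁] [Module F V₁]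
    [FiniteDimensional F V₁] [AddCommGroup V₂] [Module F V₂] [FiniteDimensional F V₂]
    {Q₁ : QuadraticForm F V₁} {Q₂ : QuadraticForm F V₂} {c₁ c₂ : ℕ} {ε : Bool}
    (h₁ : IsTyp Q₁ c₁ ε) (h₂ : IsTyp Q₂ c₂ (!ε)) : IsTyp (Q₁.prod Q₂) (c₁ + c₂) false := by
  cases ε
  · apply isTyp_swap
    rw [add_comm]
    exact isTyp_prod h₂ h₁
  · exact isTyp_prod h₁ h₂

end Cfsg.Agent.Lib.Helper99.SPU
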