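import Mathlib
import Cfsg.Agent.Lib.Helper99.SPU.Defs
import Cfsg.Agent.Lib.Helper99.SPU.TADD
import Cfsg.Agent.Lib.Helper67.SPUNMU
import Cfsg.Agent.Lib.Helper11.PGBADD

set_option autoImplicit false

universe u

namespace Cfsg.Agent.Lib.Helper99.SPU

open Module LinearMap QuadraticMap Cfsg.Agent.Lib.Helper48 Cfsg.Agent.Lib.Helper99.SP8
  Cfsg.Agent.Lib.Helper67.SPU

/-- COMB -/
theorem comb {F : Type u} [Field F] [Fintype F] [CharP F 2] {ε : Bool} {c₁ c₂ K b : ℕ}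
    (hK : 0 < K) (h₁ : QD F ε c₁ K 0) (h₂ : QN F (!ε) c₂ (2 ^ b) 2) (hc : c₁ + c₂ = 4) :
    ∃ K', 0 < K' ∧ Nat.lcm K (2 ^ (b + 1)) ∣ K' ∧ InG F K' := by
  obtain ⟨V₁, _, _, _, Q₁, T₁, ht₁, hi₁, ho₁, hf₁⟩ := h₁
  obtain ⟨V₂, _, _, _, Q₂, T₂, ht₂, hi₂, ho₂, hf₂, hN₂⟩ := h₂
  have htyp : IsTyp (Q₁.prod Q₂) 4 false := hc ▸ isTyp_prod_ne ht₁ ht₂
  have hiso : ∀ v, (Q₁.prod Q₂) ((LinearMap.prodMap T₁ T₂ : End F (V₁ × V₂)) v) = (Q₁.prod Q₂) v := by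
    intro v
    rw [QuadraticMap.prod_apply, QuadraticMap.prod_apply, LinearMap.prodMap_apply, hi₁, hi₂]
  have hord := Cfsg.Agent.Lib.Helper11.PGB.add_ord ho₁ ho₂
  have hfix : finrank F (ker ((LinearMap.prodMap T₁ T₂ : End F (V₁ × V₂)) - 1)) = 2 := by
    rw [Cfsg.Agent.Lib.Helper67.SPU.finrank_ker_prodMap, hf₁, hf₂]
  have hLpos : 0 < Nat.lcm K (2 ^ b) := Nat.lcm_pos hK (by positivity)
  obtain ⟨r, hr⟩ := Nat.dvd_lcm_right K (2 ^ b)
  rcases Nat.even_or_odd r with hev | hodd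
  · refine ⟨Nat.lcm K (2 ^ b), hLpos, ?_, Or.inl ⟨2, even_two, V₁ × V₂, inferInstance, inferInstance,
      inferInstance, Q₁.prod Q₂, LinearMap.prodMap T₁ T₂, htyp, hiso, hord, hfix⟩⟩
    apply Nat.lcm_dvd (Nat.dvd_lcm_left _ _)
    obtain ⟨t, rfl⟩ := hev
    rw [hr, pow_succ]
    exact ⟨t, by ring⟩
  · refine ⟨2 * Nat.lcm K (2 ^ b), by omega, ?_, Or.inr ⟨Nat.lcm K (2 ^ b), 2, rfl, even_two, V₁ × V₂,
      inferInstance, inferInstance, inferInstance, Q₁.prod Q₂, LinearMap.prodMap T₁ T₂, htyp, hiso,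
      hord, hfix, ?_⟩⟩
    · apply Nat.lcm_dvd ((Nat.dvd_lcm_left _ _).trans (dvd_mul_left _ _))
      rw [pow_succ, mul_comm]
      exact Nat.mul_dvd_mul_left 2 (Nat.dvd_lcm_right _ _)
    · intro h0
      apply hN₂
      apply LinearMap.ext
      intro y
      have h1 := congrArg (fun f : End F (V₁ × V₂) => (f (0, y)).2) h0
      simp only [Nm_prodMap, LinearMap.zero_apply, Prod.snd_zero] at h1
      rw [hr, Nm_mul T₂ ((ho₂ _).2 dvd_rfl) r, LinearMap.smul_apply] at h1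
      have hrF : (r : F) ≠ 0 := by
        obtain ⟨k, rfl⟩ := hodd
        have h2 : (2 : F) = 0 := by exact_mod_cast CharP.cast_eq_zero F 2
        push_cast
        rw [h2, zero_mul, zero_add]
        exact one_ne_zero
      rw [LinearMap.zero_apply]
      exact (smul_eq_zero.1 h1).resolve_left hrF

end Cfsg.Agent.Lib.Helper99.SPU
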