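import Mathlib
import Cfsg.Agent.Lib.Helper99.SPU.Defs
import Cfsg.Agent.Lib.Helper99.SP8.Main

set_option autoImplicit false

universe u

namespace Cfsg.Agent.Lib.Helper99.SPU

open Module LinearMap QuadraticMap Cfsg.Agent.Lib.Helper48 Cfsg.Agent.Lib.Helper17
  Cfsg.Agent.Lib.Helper99.PGB Cfsg.Agent.Lib.Helper99.SPD Cfsg.Agent.Lib.Helper11.PGB
  Cfsg.Agent.Lib.Helper99.SP8

theorem polarB_alt {F V : Type*} [Field F] [CharP F 2] [AddCommGroup V] [Module F V]
    (Q : QuadraticForm F V) (v : V) : polarBilin Q v v = 0 := by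
  rw [polarBilin_apply_apply, polar_self]
  have h2 : (2 : F) = 0 := by exact_mod_cast CharP.cast_eq_zero F 2
  rw [two_smul, ← two_mul, h2, zero_mul]

theorem polarB_iso {F V : Type*} [Field F] [AddCommGroup V] [Module F V]
    (Q : QuadraticForm F V) (T : End F V) (hT : ∀ v, Q (T v) = Q v) : IsoB (polarBilin Q) T := by
  intro x y
  rw [polarBilin_apply_apply, polarBilin_apply_apply, QuadraticMap.polar, QuadraticMap.polar,
    ← map_add, hT, hT, hT]

/-- the fixed space of an isometry of order prime to the characteristic has even dimension -/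
theorem even_fix {F V : Type u} [Field F] [AddCommGroup V] [Module F V] [FiniteDimensional F V]
    (B : LinearMap.BilinForm F V) (halt : ∀ v, B v v = 0) (hnd : ∀ x, (∀ y, B x y = 0) → x = 0)
    (T : End F V) (hT : IsoB B T) {K : ℕ} (hKF : (K : F) ≠ 0) (hTK : T ^ K = 1) :
    Even (finrank F (ker (T - 1))) := by
  have hcompl := isCompl_ker_range T hKF hTK
  have hort : ∀ z ∈ ker (T - 1), ∀ w ∈ range (T - 1), B z w = 0 := by
    rintro z hz _ ⟨v, rfl⟩
    have hz' : T z = z := mem_ker_sub_one.1 hz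
    rw [LinearMap.sub_apply, Module.End.one_apply, map_sub]
    nth_rewrite 1 [← hz']
    rw [hT, sub_self]
  have hndZ : ∀ x ∈ ker (T - 1), (∀ y ∈ ker (T - 1), B x y = 0) → x = 0 := by
    intro x hx h
    apply hnd
    intro v
    obtain ⟨z, hz, w, hw, rfl⟩ := exists_dec hcompl v
    rw [map_add, hort x hx w hw, h z hz, add_zero]
  have hAR : AR F (finrank F (ker (T - 1))) 1 :=
    res_AR B _ halt hndZ 1 (fun x y => rfl) (fun x hx => hx) (fun j => by simp)
  exact AR_even hAR

/-- ODD -/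
theorem QD_of_odd {F : Type u} [Field F] [Fintype F] [CharP F 2] {ε : Bool} {c K : ℕ}
    (h : QT F ε c K) (hK : Odd K) : ∃ δ, Even δ ∧ QD F ε c K δ := by
  obtain ⟨V, _, _, _, Q, T, hQ, hT, hord⟩ := h
  refine ⟨finrank F (ker (T - 1)), ?_, V, inferInstance, inferInstance, inferInstance, Q, T, hQ, hT,
    hord, rfl⟩
  exact even_fix (polarBilin Q) (polarB_alt Q) (fun x hx => hQ.2.1 x hx) T (polarB_iso Q T hT)
    (odd_cast_ne_zero hK) ((hord K).2 dvd_rfl)

end Cfsg.Agent.Lib.Helper99.SPU
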