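import Mathlib
import Cfsg.Agent.Lib.Helper99.SP8.Main
import Cfsg.Agent.Lib.Helper99.SPU.Defs
import Cfsg.Agent.Lib.Helper99.SPU.ODD
import Cfsg.Agent.Lib.Helper99.SPU.COMB
import Cfsg.Agent.Lib.Helper36.SPUUE

set_option autoImplicit false

universe u

namespace Cfsg.Agent.Lib.Helper99.SPU

open Module LinearMap QuadraticMap Cfsg.Agent.Lib.Helper48 Cfsg.Agent.Lib.Helper17
  Cfsg.Agent.Lib.Helper99.PGB Cfsg.Agent.Lib.Helper99.SPD Cfsg.Agent.Lib.Helper11.PGB
  Cfsg.Agent.Lib.Helper11.SP8 Cfsg.Agent.Lib.Helper66.SP8 Cfsg.Agent.Lib.Helper62.SP8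
  Cfsg.Agent.Lib.Helper67.SP8 Cfsg.Agent.Lib.Helper99.SP8 Cfsg.Agent.Lib.Helper36.SPU

theorem QT_of_dvd {F : Type u} [Field F] [Fintype F] {ε : Bool} {c K K' : ℕ} (h : QT F ε c K')
    (hK' : 0 < K') (hd : K ∣ K') : QT F ε c K := by
  obtain ⟨V, _, _, _, Q, T, hQ, hT, hord⟩ := h
  obtain ⟨r, rfl⟩ := hd
  have hr : 0 < r := Nat.pos_of_mul_pos_left hK'
  refine ⟨V, inferInstance, inferInstance, inferInstance, Q, T ^ r, hQ, ?_, ?_⟩
  · intro v
    clear hord hK'
    induction r generalizing v with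
    | zero => simp
    | succ r ih =>
      rcases Nat.eq_zero_or_pos r with rfl | hr'
      · simpa using hT v
      · rw [pow_succ, Module.End.mul_apply, ih hr', hT]
  · intro j
    rw [← pow_mul, hord, mul_comm K r]
    exact Nat.mul_dvd_mul_iff_left hr

theorem QD_of_fpf {F : Type u} [Field F] [Fintype F] [CharP F 2] {V : Type u} [AddCommGroup V]
    [Module F V] [FiniteDimensional F V] (B : LinearMap.BilinForm F V) (halt : ∀ v, B v v = 0)
    (hnd : ∀ x, (∀ y, B x y = 0) → x = 0) {c K : ℕ} (hdim : finrank F V = 2 * c) (T : End F V)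
    (hT : IsoB B T) (hfix : ∀ v, T v = v → v = 0) (hord : ∀ j, T ^ j = 1 ↔ K ∣ j) :
    ∃ ε, QD F ε c K 0 := by
  obtain ⟨Q, hQ, hQT⟩ := exists_quad B halt hnd T hT hfix
  have hnd' : ∀ x, (∀ y, polar Q x y = 0) → x = 0 := by
    intro x hx
    apply hnd
    intro y
    rw [← hQ]
    exact hx y
  have hker : finrank F (ker (T - 1)) = 0 := by
    rw [Submodule.finrank_eq_zero, Submodule.eq_bot_iff]
    intro v hv
    exact hfix v (mem_ker_sub_one.1 hv)
  rcases isTyp_dich Q c hdim hnd' with h | h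
  · exact ⟨true, V, inferInstance, inferInstance, inferInstance, Q, T, h, hQT, hord, hker⟩
  · exact ⟨false, V, inferInstance, inferInstance, inferInstance, Q, T, h, hQT, hord, hker⟩

section main
variable {F : Type u} [Field F] [Fintype F] [CharP F 2] {V : Type u} [AddCommGroup V] [Module F V]
  [FiniteDimensional F V]

theorem main_low (B : LinearMap.BilinForm F V) (halt : ∀ v, B v v = 0)
    (hnd : ∀ x, (∀ y, B x y = 0) → x = 0) (hdim : finrank F V = 8) (T : End F V) (hT : IsoB B T)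
    {K : ℕ} (hK : 0 < K) (hord : ∀ j, T ^ j = 1 ↔ K ∣ j) :
    ∃ K', K ∣ K' ∧ 0 < K' ∧ InG F K' := by
  have : Nontrivial V := Module.nontrivial_of_finrank_pos (R := F) (by omega)
  obtain ⟨a, m, x, y, hm, hKam, hsord, huord, hsu⟩ := parts T hK hord
  obtain ⟨s, hs_def⟩ : ∃ s, s = T ^ x := ⟨_, rfl⟩
  obtain ⟨u, hu_def⟩ : ∃ u, u = T ^ y := ⟨_, rfl⟩
  rw [← hs_def, ← hu_def] at hsu
  rw [← hs_def] at hsord
  rw [← hu_def] at huord
  have hs : IsoB B s := hs_def ▸ isoB_pow hT x
  have hu : IsoB B u := hu_def ▸ isoB_pow hT y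
  have hmF := odd_cast_ne_zero (F := F) hm
  have hsm : s ^ m = 1 := (hsord m).2 dvd_rfl
  have hua : u ^ 2 ^ a = 1 := (huord _).2 dvd_rfl
  have hNa : (u - 1) ^ 2 ^ a = 0 := by rw [sub_one_pow_two_pow, hua, sub_self]
  have hcsT : Commute s T := by rw [hs_def]; exact (Commute.refl T).pow_left x
  have hcsu : Commute s u := by rw [hs_def, hu_def]; exact (Commute.refl T).pow_pow x y
  have hcompl := isCompl_ker_range s hmF hsm
  have hcop : Nat.Coprime (2 ^ a) m := Nat.Coprime.pow_left a (Nat.coprime_two_left.2 hm)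
  by_cases hZ0 : finrank F (ker (s - 1)) = 0
  · -- `s` is fixed point free
    have hfix : ∀ v, s v = v → v = 0 := by
      intro v hv
      have h1 : v ∈ ker (s - 1) := mem_ker_sub_one.2 hv
      rw [Submodule.finrank_eq_zero.1 hZ0] at h1
      exact (Submodule.mem_bot F).1 h1
    by_cases hu1 : u = 1
    · rw [hu1, mul_one] at hsu
      obtain ⟨K', h1, h2, h3⟩ := main_ss B halt hnd hdim s hs hm hsord
      obtain ⟨δ, hδ, hD⟩ := QD_of_odd (QT_of_dvd h3 h2 h1) hm
      refine ⟨m, ?_, hm.pos, Or.inl ⟨δ, hδ, hD⟩⟩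
      rw [← hord, ← hsu, hsm]
    · have hex : ∃ k, (u - 1) ^ k = 0 := ⟨_, hNa⟩
      classical
      have hk0 : Nat.find hex ≠ 0 := by
        intro h0
        have := Nat.find_spec hex
        rw [h0, pow_zero] at this
        exact one_ne_zero this
      have hk1 : Nat.find hex ≠ 1 := by
        intro h0
        have := Nat.find_spec hex
        rw [h0, pow_one, sub_eq_zero] at this
        exact hu1 this
      obtain ⟨j, hj⟩ : ∃ j, Nat.find hex = j + 1 := ⟨Nat.find hex - 1, by omega⟩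
      have hj1 : 1 ≤ j := by omega
      have hN : (u - 1) ^ j ≠ 0 := Nat.find_min hex (by omega)
      have hN' : (u - 1) ^ (j + 1) = 0 := by rw [← hj]; exact Nat.find_spec hex
      obtain ⟨d, X, _, _, _, B', s', hdj, hXdim, halt', hnd', hs', hs'ord, hfix'⟩ :=
        top_reduce B halt hnd (n := 4) hdim s u hs hu hcsu hm hsord hfix hj1 hN hN'
      obtain ⟨ε, hQX⟩ := QD_of_fpf B' halt' hnd' hXdim s' hs' hfix' hs'ord
      obtain ⟨b, hb, hJ⟩ := ue_list F (!ε) (4 - d) (by omega) (by omega)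
      obtain ⟨K', hK'0, hK'd, hK'G⟩ := comb hm.pos hQX hJ (by omega)
      refine ⟨K', Dvd.dvd.trans ?_ hK'd, hK'0, hK'G⟩
      rw [hKam]
      apply hcop.mul_dvd_of_dvd_of_dvd
      · apply Dvd.dvd.trans _ (Nat.dvd_lcm_right _ _)
        rw [← huord]
        have h0 : (u - 1) ^ 2 ^ (b + 1) = 0 := pow_eq_zero_of_le (by omega) hN'
        rw [sub_one_pow_two_pow, sub_eq_zero] at h0
        exact h0
      · exact Nat.dvd_lcm_left _ _
  · -- `s` has fixed points
    have hWT : ∀ w ∈ range (s - 1), T w ∈ range (s - 1) := by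
      rintro _ ⟨v, rfl⟩
      refine ⟨T v, ?_⟩
      have h1 : (s - 1) * T = T * (s - 1) := by
        rw [sub_mul, mul_sub, hcsT.eq, one_mul, mul_one]
      exact congrArg (fun f : End F V => f v) h1
    have hort : ∀ w ∈ range (s - 1), ∀ z ∈ ker (s - 1), B w z = 0 := by
      rintro _ ⟨v, rfl⟩ z hz
      have hz' : s z = z := mem_ker_sub_one.1 hz
      rw [LinearMap.sub_apply, Module.End.one_apply, map_sub, LinearMap.sub_apply]
      nth_rewrite 1 [← hz']
      rw [hs, sub_self]
    have hndW : ∀ x ∈ range (s - 1), (∀ y ∈ range (s - 1), B x y = 0) → x = 0 := by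
      intro x hx h
      apply hnd
      intro v
      obtain ⟨z, hz, w, hw, rfl⟩ := exists_dec hcompl v
      rw [map_add, hort x hx z hz, h w hw, add_zero]
    have hKW : ∀ j, (T.restrict hWT : End F (range (s - 1))) ^ j = 1 ↔
        orderOf (T.restrict hWT : End F (range (s - 1))) ∣ j :=
      fun j => (orderOf_dvd_iff_pow_eq_one).symm
    have hAR : AR F (finrank F (range (s - 1))) (orderOf (T.restrict hWT : End F (range (s - 1)))) :=
      res_AR B _ halt hndW T hT hWT (fun j => by rw [← restrict_pow_eq_one_iff T _ hWT, hKW])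
    obtain ⟨n', hn'⟩ := AR_even hAR
    have hsum := Submodule.finrank_add_eq_of_isCompl hcompl
    rw [hdim] at hsum
    obtain ⟨ε, hQW⟩ := QD_of_fpf (B.restrict (range (s - 1))) (fun v => halt _)
      (fun x hx => Subtype.ext (hndW x.1 x.2 (fun y hy => hx ⟨y, hy⟩))) (c := n') (by omega)
      (T.restrict hWT) (fun x y => hT _ _)
      (by
        intro v hv
        have h1 : T (v : V) = v := congrArg Subtype.val hv
        have h2 : s (v : V) = v := by
          have h2' := pow_apply_fixed h1 x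
          rwa [← hs_def] at h2'
        have h3 : (v : V) ∈ ker (s - 1) ⊓ range (s - 1) := ⟨mem_ker_sub_one.2 h2, v.2⟩
        rw [hcompl.inf_eq_bot] at h3
        exact Subtype.ext ((Submodule.mem_bot F).1 h3)) hKW
    obtain ⟨b, hb, hJ⟩ := ue_list F (!ε) (4 - n') (by omega) (by omega)
    have hpos : 0 < orderOf (T.restrict hWT : End F (range (s - 1))) := by
      rw [orderOf_pos_iff, isOfFinOrder_iff_pow_eq_one]
      refine ⟨K, hK, ?_⟩
      rw [restrict_pow_eq_one_iff]
      intro w _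
      rw [(hord K).2 dvd_rfl, Module.End.one_apply]
    obtain ⟨K', hK'0, hK'd, hK'G⟩ := comb hpos hQW hJ (by omega)
    refine ⟨K', Dvd.dvd.trans ?_ hK'd, hK'0, hK'G⟩
    rw [← hord]
    apply LinearMap.ext
    intro v
    obtain ⟨z, hz, w, hw, rfl⟩ := exists_dec hcompl v
    rw [map_add, Module.End.one_apply]
    congr 1
    · -- on the fixed space `T` is unipotent
      have hz' : s z = z := mem_ker_sub_one.1 hz
      have hZu : ∀ z ∈ ker (s - 1), (u - 1) z ∈ ker (s - 1) := by
        intro z hz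
        exact ker_inv (hcsu.sub_right (Commute.one_right s)) hz
      have h1 : ((u - 1) ^ 2 ^ (b + 1) : End F V) z = 0 :=
        nil_on_sub (u - 1) hNa _ hZu (by omega) z hz
      rw [sub_one_pow_two_pow, LinearMap.sub_apply, Module.End.one_apply, sub_eq_zero] at h1
      have h2 : (T ^ 2 ^ (b + 1) : End F V) z = z := by
        rw [← hsu, hcsu.mul_pow, Module.End.mul_apply, h1]
        exact pow_apply_fixed hz' _
      obtain ⟨r, hr⟩ := Nat.dvd_lcm_right (orderOf (T.restrict hWT : End F (range (s - 1)))) (2 ^ (b + 1))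
      rw [hr, pow_mul]
      exact pow_apply_fixed h2 r
    · exact (restrict_pow_eq_one_iff T _ hWT _).1 ((hKW _).2 (Nat.dvd_lcm_left _ _)) w hw

end main

end Cfsg.Agent.Lib.Helper99.SPU
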