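import Mathlib
import Cfsg.Agent.Lib.Helper99.SPU.Defs
import Cfsg.Agent.Lib.Helper50.QuadIso

set_option autoImplicit false

universe u

namespace Cfsg.Agent.Lib.Helper99.SPU

open Module LinearMap QuadraticMap Cfsg.Agent.Lib.Helper48 Cfsg.Agent.Lib.Helper99.SP8
  Cfsg.Agent.Lib.Helper50.Quad

/-- two minus type spaces of dimension 8 are isometric -/
theorem exists_isometry {F : Type*} [Field F] [Fintype F] {V V₀ : Type*} [AddCommGroup V]
    [Module F V] [FiniteDimensional F V] [AddCommGroup V₀] [Module F V₀] [FiniteDimensional F V₀]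
    (Q : QuadraticForm F V) (Q₀ : QuadraticForm F V₀) (h : IsTyp Q 4 false)
    (h₀ : IsTyp Q₀ 4 false) : ∃ e : V ≃ₗ[F] V₀, ∀ v, Q₀ (e v) = Q v := by
  obtain ⟨hdim, hnd, hN⟩ := h
  obtain ⟨hdim₀, hnd₀, hN₀⟩ := h₀
  have hQ : Nondeg Q ⊤ := by
    intro w _ hw
    by_contra hcon
    push Not at hcon
    exact hw (hnd w (fun y => hcon y trivial))
  have hQ₀ : Nondeg Q₀ ⊤ := by
    intro w _ hw
    by_contra hcon
    push Not at hcon
    exact hw (hnd₀ w (fun y => hcon y trivial))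
  apply iso_of_card_sing 3 hdim hdim₀ hQ hQ₀
  simp only [cond_false] at hN hN₀
  have hq : 0 < Fintype.card F := Fintype.card_pos
  have h1 : Fintype.card F * Nat.card {v : V // Q v = 0} =
      Fintype.card F * Nat.card {v : V₀ // Q₀ v = 0} := by omega
  exact Nat.eq_of_mul_eq_mul_left hq h1

theorem transport_core {F : Type*} [Field F] {V V₀ : Type*} [AddCommGroup V]
    [Module F V] [AddCommGroup V₀] [Module F V₀]
    (Q : QuadraticForm F V) (Q₀ : QuadraticForm F V₀) (e : V ≃ₗ[F] V₀) (he : ∀ v, Q₀ (e v) = Q v)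
    (T : End F V) (hT : ∀ v, Q (T v) = Q v) {K : ℕ} (hK : 0 < K) (hord : ∀ j, T ^ j = 1 ↔ K ∣ j) :
    ∃ g : (End F V₀)ˣ, (∀ v, Q₀ ((g : End F V₀) v) = Q₀ v) ∧
      finrank F (ker ((g : End F V₀) - 1)) = finrank F (ker (T - 1)) ∧ orderOf g = K ∧
      (Nm T K ≠ 0 → Nm (g : End F V₀) K ≠ 0) := by
  let E : End F V ≃+* End F V₀ := e.conjRingEquiv
  have hE : ∀ (S : End F V) (u : V₀), E S u = e (S (e.symm u)) := fun S u => rfl
  have hTK : (E T) ^ K = 1 := by rw [← map_pow, (hord K).2 dvd_rfl, map_one]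
  let g : (End F V₀)ˣ := Units.ofPowEqOne (E T) K hTK hK.ne'
  have hg : (g : End F V₀) = E T := rfl
  refine ⟨g, ?_, ?_, ?_, ?_⟩
  · intro u
    rw [hg, hE, he, hT, ← he, LinearEquiv.apply_symm_apply]
  · rw [hg]
    have h1 : E T - 1 = E (T - 1) := by rw [map_sub, map_one]
    rw [h1]
    have h2 : ker (E (T - 1)) = (ker (T - 1)).map (e : V →ₗ[F] V₀) := by
      ext u
      rw [mem_ker, hE, Submodule.mem_map]
      constructor
      · intro h
        refine ⟨e.symm u, ?_, by simp⟩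
        rw [mem_ker]
        exact e.injective (by rw [h, map_zero])
      · rintro ⟨v, hv, rfl⟩
        rw [mem_ker] at hv
        simp [hv]
    rw [h2]
    exact (e.submoduleMap (ker (T - 1))).finrank_eq.symm
  · have key : ∀ j, g ^ j = 1 ↔ K ∣ j := by
      intro j
      rw [← hord j, ← Units.val_inj, Units.val_pow_eq_pow_val, Units.val_one, hg, ← map_pow]
      exact ⟨fun h => E.injective (by rw [h, map_one]), fun h => by rw [h, map_one]⟩
    exact Nat.dvd_antisymm (orderOf_dvd_iff_pow_eq_one.2 ((key K).2 dvd_rfl))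
      ((key _).1 (pow_orderOf_eq_one _))
  · intro hN h0
    apply hN
    apply E.injective
    rw [map_zero, ← h0, hg, Nm, Nm, map_sum]
    exact Finset.sum_congr rfl (fun i _ => map_pow E T i)

/-- TRANS1 -/
theorem transport_QD {F : Type u} [Field F] [Fintype F] {V₀ : Type u} [AddCommGroup V₀]
    [Module F V₀] [FiniteDimensional F V₀] (Q₀ : QuadraticForm F V₀) (h₀ : IsTyp Q₀ 4 false)
    {K δ : ℕ} (hK : 0 < K) (h : QD F false 4 K δ) :
    ∃ g : (End F V₀)ˣ, (∀ v, Q₀ ((g : End F V₀) v) = Q₀ v) ∧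
      finrank F (ker ((g : End F V₀) - 1)) = δ ∧ orderOf g = K := by
  obtain ⟨V, _, _, _, Q, T, hQ, hT, hord, hδ⟩ := h
  obtain ⟨e, he⟩ := exists_isometry Q Q₀ hQ h₀
  obtain ⟨g, h1, h2, h3, -⟩ := transport_core Q Q₀ e he T hT hK hord
  exact ⟨g, h1, h2.trans hδ, h3⟩

/-- TRANS2 -/
theorem transport_QN {F : Type u} [Field F] [Fintype F] {V₀ : Type u} [AddCommGroup V₀]
    [Module F V₀] [FiniteDimensional F V₀] (Q₀ : QuadraticForm F V₀) (h₀ : IsTyp Q₀ 4 false)
    {K δ : ℕ} (hK : 0 < K) (h : QN F false 4 K δ) :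
    ∃ g : (End F V₀)ˣ, (∀ v, Q₀ ((g : End F V₀) v) = Q₀ v) ∧
      finrank F (ker ((g : End F V₀) - 1)) = δ ∧ orderOf g = K ∧ Nm (g : End F V₀) K ≠ 0 := by
  obtain ⟨V, _, _, _, Q, T, hQ, hT, hord, hδ, hN⟩ := h
  obtain ⟨e, he⟩ := exists_isometry Q Q₀ hQ h₀
  obtain ⟨g, h1, h2, h3, h4⟩ := transport_core Q Q₀ e he T hT hK hord
  exact ⟨g, h1, h2.trans hδ, h3, h4 hN⟩

end Cfsg.Agent.Lib.Helper99.SPU
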